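/-
Maximal complements and essential monomorphisms in Grothendieck abelian categories.
-/
import Mathlib.CategoryTheory.Abelian.GrothendieckCategory.Subobject
import Mathlib.CategoryTheory.Abelian.GrothendieckCategory.Monomorphisms
import Mathlib.CategoryTheory.Abelian.Refinements
import Mathlib.CategoryTheory.Subobject.Limits
import Mathlib.Order.Zorn

set_option autoImplicit false

open CategoryTheory CategoryTheory.Limits

namespace Groth.Agent.Lib.GabLoc.Essential

universe w v u

variable {C : Type u} [Category.{v} C] [Abelian C]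

/-- A monomorphism is essential: every subobject meeting it trivially is zero. -/
def Ess {M X : C} (m : M ⟶ X) : Prop :=
  ∀ ⦃S : C⦄ (s : S ⟶ X), Mono (s ≫ cokernel.π m) → IsZero S

lemma exists_of_comp_π_eq_zero {M X : C} (m : M ⟶ X) {T : C} (x : T ⟶ X) (h : x ≫ cokernel.π m = 0) :
    ∃ (T' : C) (e : T' ⟶ T) (_ : Epi e) (y : T' ⟶ M), e ≫ x = y ≫ m :=
  (ShortComplex.exact_of_g_is_cokernel (ShortComplex.mk m (cokernel.π m) (cokernel.condition m))
    (cokernelIsCokernel m)).exact_up_to_refinements x h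

lemma mono_of_ess {M X Z : C} {m : M ⟶ X} (hm : Ess m) (f : X ⟶ Z) (hf : Mono (m ≫ f)) : Mono f := by
  refine Preadditive.mono_of_kernel_zero (IsZero.eq_of_src ?_ _ _)
  refine hm (kernel.ι f) (Preadditive.mono_of_cancel_zero _ fun {T} z hz => ?_)
  obtain ⟨T', e, he, y, hy⟩ := exists_of_comp_π_eq_zero m (z ≫ kernel.ι f) (by rw [Category.assoc, hz])
  have hy0 : y = 0 := by
    rw [← cancel_mono (m ≫ f), zero_comp, ← Category.assoc, ← hy]
    simp
  rw [← cancel_mono (kernel.ι f), zero_comp, ← cancel_epi e, comp_zero, hy, hy0, zero_comp]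

variable [IsGrothendieckAbelian.{w} C]

lemma mono_sSup {X Z : C} (f : X ⟶ Z) (c : Set (Subobject X)) (hne : c.Nonempty)
    (hdir : DirectedOn (· ≤ ·) c) (h : ∀ W ∈ c, Mono (W.arrow ≫ f)) :
    ∃ W : Subobject X, (∀ W' ∈ c, W' ≤ W) ∧ Mono (W.arrow ≫ f) := by
  let J := Shrink.{w} c
  let e : J ≃ c := (equivShrink c).symm
  letI : Preorder J := Preorder.lift e
  letI : SmallCategory J := Preorder.smallCategory J
  have : Nonempty J := ⟨e.symm ⟨hne.some, hne.some_mem⟩⟩
  have : IsDirectedOrder J := ⟨fun a b => by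
    obtain ⟨z, hz, h1, h2⟩ := hdir _ (e a).2 _ (e b).2
    refine ⟨e.symm ⟨z, hz⟩, ?_, ?_⟩
    · change e a ≤ e (e.symm ⟨z, hz⟩)
      rw [Equiv.apply_symm_apply]; exact h1
    · change e b ≤ e (e.symm ⟨z, hz⟩)
      rw [Equiv.apply_symm_apply]; exact h2⟩
  let F : J ⥤ MonoOver X :=
    { obj := fun j => MonoOver.mk (e j).1.arrow
      map := fun {i j} hij => MonoOver.homMk (Subobject.ofLE (e i).1 (e j).1 (leOfHom (X := J) hij))
        (Subobject.ofLE_arrow _) }
  let G : J ⥤ MonoOver Z :=
    { obj := fun j => @MonoOver.mk _ _ _ _ ((e j).1.arrow ≫ f) (h _ (e j).2)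
      map := fun {i j} hij => MonoOver.homMk (Subobject.ofLE (e i).1 (e j).1 (leOfHom (X := J) hij)) (by
        change Subobject.ofLE _ _ _ ≫ (e j).1.arrow ≫ f = (e i).1.arrow ≫ f
        rw [Subobject.ofLE_arrow_assoc]) }
  let D : J ⥤ C := F ⋙ MonoOver.forget _ ⋙ Over.forget _
  let u : colimit D ⟶ X := colimit.desc D (Cocone.mk X
    { app := fun j => (e j).1.arrow
      naturality := fun {i j} g => by
        change Subobject.ofLE _ _ _ ≫ (e j).1.arrow = (e i).1.arrow ≫ 𝟙 X
        rw [Subobject.ofLE_arrow, Category.comp_id] })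
  have hu : ∀ j, colimit.ι D j ≫ u = (e j).1.arrow := fun j => colimit.ι_desc _ j
  have : Mono u := IsGrothendieckAbelian.mono_of_isColimit_monoOver F (colimit.isColimit D) u hu
  have huf : Mono (u ≫ f) := IsGrothendieckAbelian.mono_of_isColimit_monoOver G (colimit.isColimit D) (u ≫ f)
    (fun j => (reassoc_of% (hu j)) f)
  refine ⟨Subobject.mk u, fun W' hW' => ?_, ?_⟩
  · have he : e (e.symm ⟨W', hW'⟩) = ⟨W', hW'⟩ := e.apply_symm_apply _
    have hle : (e (e.symm ⟨W', hW'⟩)).1 ≤ Subobject.mk u :=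
      Subobject.le_mk_of_comm (colimit.ι D (e.symm ⟨W', hW'⟩)) (hu _)
    rw [he] at hle
    exact hle
  · rw [← Subobject.underlyingIso_hom_comp_eq_mk u, Category.assoc]
    infer_instance

/-- Maximal complements exist. -/
theorem exists_max {X Z : C} (f : X ⟶ Z) (B : Subobject X) (hB : Mono (B.arrow ≫ f)) :
    ∃ W : Subobject X, B ≤ W ∧ Mono (W.arrow ≫ f) ∧
      ∀ W' : Subobject X, W ≤ W' → Mono (W'.arrow ≫ f) → W' = W := by
  obtain ⟨W, hBW, hW⟩ := zorn_le_nonempty₀ {W : Subobject X | Mono (W.arrow ≫ f)}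
    (fun c hc hchain y hy => by
      obtain ⟨W, h1, h2⟩ := mono_sSup f c ⟨y, hy⟩ hchain.directedOn (fun W hW => hc hW)
      exact ⟨W, h2, h1⟩) B hB
  exact ⟨W, hBW, hW.1, fun W' hle hW' => le_antisymm (hW.2 hW' hle) hle⟩

/-- Every monomorphism becomes essential after dividing out a maximal complement. -/
theorem exists_ess {M X : C} (m : M ⟶ X) [Mono m] (B : Subobject X) (hB : Mono (B.arrow ≫ cokernel.π m)) :
    ∃ W : Subobject X, B ≤ W ∧ Mono (m ≫ cokernel.π W.arrow) ∧ Ess (m ≫ cokernel.π W.arrow) := by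
  obtain ⟨W, hBW, hW, hmax⟩ := exists_max (cokernel.π m) B hB
  have hm' : Mono (m ≫ cokernel.π W.arrow) := by
    refine Preadditive.mono_of_cancel_zero _ fun {T} x hx => ?_
    obtain ⟨T', e, he, y, hy⟩ := exists_of_comp_π_eq_zero W.arrow (x ≫ m) (by rw [Category.assoc, hx])
    have hy0 : y = 0 := by
      rw [← cancel_mono (W.arrow ≫ cokernel.π m), zero_comp, ← Category.assoc, ← hy]
      simp
    rw [← cancel_mono m, zero_comp, ← cancel_epi e, comp_zero, hy, hy0, zero_comp]
  refine ⟨W, hBW, hm', fun S s hs => ?_⟩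
  have hms : Mono s := mono_of_mono s (cokernel.π (m ≫ cokernel.π W.arrow))
  let W' : Subobject X := Subobject.mk (pullback.fst (cokernel.π W.arrow) s)
  have hW' : W ≤ W' := Subobject.le_mk_of_comm
    (pullback.lift W.arrow 0 (by rw [cokernel.condition, zero_comp])) (pullback.lift_fst _ _ _)
  have hgood : Mono (pullback.fst (cokernel.π W.arrow) s ≫ cokernel.π m) := by
    refine Preadditive.mono_of_cancel_zero _ fun {T} x hx => ?_
    obtain ⟨T₁, e₁, he₁, y, hy⟩ := exists_of_comp_π_eq_zero m (x ≫ pullback.fst _ _)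
      (by rw [Category.assoc, hx])
    have hxs : (e₁ ≫ x) ≫ pullback.snd (cokernel.π W.arrow) s = 0 := by
      rw [← cancel_mono (s ≫ cokernel.π (m ≫ cokernel.π W.arrow)), zero_comp]
      simp only [Category.assoc]
      rw [← pullback.condition_assoc, reassoc_of% hy, ← Category.assoc m, cokernel.condition, comp_zero]
    obtain ⟨T₂, e₂, he₂, z, hz⟩ := exists_of_comp_π_eq_zero W.arrow ((e₁ ≫ x) ≫ pullback.fst _ _) (by
      rw [Category.assoc, pullback.condition, ← Category.assoc (e₁ ≫ x), hxs, zero_comp])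
    have hz0 : z = 0 := by
      rw [← cancel_mono (W.arrow ≫ cokernel.π m), zero_comp, ← Category.assoc, ← hz]
      simp [hx]
    rw [hz0, zero_comp] at hz
    rw [← cancel_mono (pullback.fst (cokernel.π W.arrow) s), zero_comp, ← cancel_epi (e₂ ≫ e₁), comp_zero]
    simpa using hz
  have heq : W' = W := hmax W' hW' (by
    rw [← Subobject.underlyingIso_hom_comp_eq_mk, Category.assoc]; infer_instance)
  obtain ⟨k, hk⟩ : ∃ k, k ≫ W.arrow = pullback.fst (cokernel.π W.arrow) s :=
    ⟨Subobject.ofMkLE _ W (le_of_eq heq), Subobject.ofMkLE_arrow (le_of_eq heq)⟩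
  have h0 : pullback.snd (cokernel.π W.arrow) s = 0 := by
    rw [← cancel_mono s, zero_comp, ← pullback.condition, ← hk, Category.assoc, cokernel.condition, comp_zero]
  exact IsZero.of_epi_eq_zero (pullback.snd (cokernel.π W.arrow) s) h0

lemma exists_ess_mono {M X : C} (m : M ⟶ X) [Mono m] :
    ∃ W : Subobject X, Mono (m ≫ cokernel.π W.arrow) ∧ Ess (m ≫ cokernel.π W.arrow) := by
  obtain ⟨W, -, h⟩ := exists_ess m ⊥ (by
    have : IsZero ((⊥ : Subobject X) : C) := (isZero_zero C).of_iso Subobject.botCoeIsoZero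
    exact ⟨fun _ _ _ => this.eq_of_tgt _ _⟩)
  exact ⟨W, h⟩

/-- Indecomposable injectives are uniform. -/
theorem uniform (E : C) [Injective E] (hind : ∀ (A B : C), Nonempty (E ≅ A ⊞ B) → IsZero A ∨ IsZero B)
    {A B : C} (a : A ⟶ E) [Mono a] (b : B ⟶ E) [Mono b] (h : Mono (b ≫ cokernel.π a)) :
    IsZero A ∨ IsZero B := by
  obtain ⟨W, hBW, hm, hess⟩ := exists_ess a (Subobject.mk b)
    (by rw [← Subobject.underlyingIso_hom_comp_eq_mk, Category.assoc]; infer_instance)
  -- enlarge `a`
  have hAW : Mono ((Subobject.mk a).arrow ≫ cokernel.π W.arrow) := by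
    rw [← Subobject.underlyingIso_hom_comp_eq_mk, Category.assoc]; infer_instance
  obtain ⟨A', hAA', hA', hmax⟩ := exists_max (cokernel.π W.arrow) (Subobject.mk a) hAW
  have ha : Subobject.ofMkLE a A' hAA' ≫ A'.arrow = a := Subobject.ofMkLE_arrow hAA'
  let g := Injective.factorThru A'.arrow (A'.arrow ≫ cokernel.π W.arrow)
  have hg : (A'.arrow ≫ cokernel.π W.arrow) ≫ g = A'.arrow := Injective.comp_factorThru _ _
  have hgm : Mono g := mono_of_ess hess g (by
    have : (a ≫ cokernel.π W.arrow) ≫ g = a := by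
      rw [← ha, Category.assoc, Category.assoc]
      simp only [Category.assoc] at hg ⊢
      rw [hg]
    rw [this]; infer_instance)
  have hgood : Mono ((Subobject.mk g).arrow ≫ cokernel.π W.arrow) := by
    have : Mono (g ≫ cokernel.π W.arrow) := by
      refine mono_of_ess hess _ ?_
      have : (a ≫ cokernel.π W.arrow) ≫ g ≫ cokernel.π W.arrow = a ≫ cokernel.π W.arrow := by
        rw [← ha, Category.assoc, Category.assoc]
        simp only [Category.assoc] at hg ⊢
        rw [reassoc_of% hg]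
      rw [this]; infer_instance
    rw [← Subobject.underlyingIso_hom_comp_eq_mk, Category.assoc]; infer_instance
  have hle : A' ≤ Subobject.mk g := Subobject.le_mk_of_comm _ hg
  have heq := hmax _ hle hgood
  let t : cokernel W.arrow ⟶ (A' : C) := Subobject.ofMkLE g A' (le_of_eq heq)
  have ht : t ≫ A'.arrow = g := Subobject.ofMkLE_arrow (le_of_eq heq)
  have : Mono t := mono_of_mono_fac ht
  have htS : A'.arrow ≫ cokernel.π W.arrow ≫ t = 𝟙 _ := by
    rw [← cancel_mono A'.arrow, Category.id_comp, Category.assoc, Category.assoc, ht, ← Category.assoc]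
    exact hg
  let S := ShortComplex.mk W.arrow (cokernel.π W.arrow ≫ t) (by rw [cokernel.condition_assoc, zero_comp])
  have : Epi (cokernel.π W.arrow ≫ t) := (IsSplitEpi.mk' ⟨A'.arrow, htS⟩).epi
  have hex : S.Exact := by
    rw [ShortComplex.exact_iff_exact_up_to_refinements]
    intro T x hx
    refine exists_of_comp_π_eq_zero W.arrow x ((cancel_mono t).1 ?_)
    rw [Category.assoc, zero_comp]
    exact hx
  have : Mono S.f := inferInstanceAs (Mono W.arrow)
  have σ : S.Splitting := ShortComplex.Splitting.ofExactOfSection S hex A'.arrow htS inferInstance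
  rcases hind _ _ ⟨σ.isoBinaryBiproduct⟩ with hW0 | hA0
  · have : Mono (Subobject.ofMkLE b W hBW) := inferInstance
    exact Or.inr (IsZero.of_mono (Subobject.ofMkLE b W hBW) hW0)
  · exact Or.inl (IsZero.of_mono (Subobject.ofMkLE a A' hAA') hA0)

end Groth.Agent.Lib.GabLoc.Essential
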