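/-
The hereditary torsion class generated by a class closed under subobjects and quotients.
-/
import Groth.Prelude.Def_W4c5qcohlocdualityLoc
import Groth.Agent.Lib.GabLoc.Essential
import Mathlib.CategoryTheory.Abelian.Images

set_option autoImplicit false

open CategoryTheory CategoryTheory.Limits Groth.Agent.Lib.GabLoc.Essential

namespace Groth.Agent.Lib.GabLoc.Torsion

universe w v u

variable {C : Type u} [Category.{v} C] [Abelian C]

/-- Every nonzero quotient has a nonzero subobject in `P`. -/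
def tors (P : ObjectProperty C) : ObjectProperty C := fun Y =>
  ∀ ⦃Q : C⦄ (p : Y ⟶ Q), Epi p → ¬ IsZero Q →
    ∃ (S : C) (i : S ⟶ Q), Mono i ∧ P S ∧ ¬ IsZero S

variable {P : ObjectProperty C}

lemma exists_of_comp_ne_zero {Y Y' Q : C} (hY : tors P Y') (g : Y' ⟶ Y) (p : Y ⟶ Q) (h : g ≫ p ≠ 0) :
    ∃ (S : C) (i : S ⟶ Q), Mono i ∧ P S ∧ ¬ IsZero S := by
  obtain ⟨S, i, hi, hS, hS'⟩ := hY (Abelian.factorThruImage (g ≫ p)) inferInstance (fun h0 => h (by
    rw [← Abelian.image.fac (g ≫ p), h0.eq_of_tgt (Abelian.factorThruImage (g ≫ p)) 0, zero_comp]))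
  exact ⟨S, i ≫ Abelian.image.ι (g ≫ p), inferInstance, hS, hS'⟩

lemma le_tors [P.IsClosedUnderQuotients] : P ≤ tors P := fun Y hY Q p hp hQ =>
  ⟨Q, 𝟙 Q, inferInstance, P.prop_of_epi p hY, hQ⟩

variable [IsGrothendieckAbelian.{w} C]

theorem isLocalizing_tors [P.IsClosedUnderSubobjects] : _root_.GabLoc.IsLocalizing.{w} (tors P) := by
  have hz : (tors P).ContainsZero := ⟨⟨(⊥_ C), HasZeroObject.zeroIsoInitial.isZero_iff.1 (isZero_zero C),
    fun Q p hp hQ => absurd (IsZero.of_epi p (HasZeroObject.zeroIsoInitial.isZero_iff.1 (isZero_zero C))) hQ⟩⟩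
  have hq : (tors P).IsClosedUnderQuotients :=
    ⟨fun f _ hX Q p hp hQ => hX (f ≫ p) (epi_comp f p) hQ⟩
  have he : (tors P).IsClosedUnderExtensions := ⟨fun {S} hS h₁ h₃ Q p hp hQ => by
    by_cases h : S.f ≫ p = 0
    · obtain ⟨p', hp'⟩ : ∃ p' : S.X₃ ⟶ Q, S.g ≫ p' = p :=
        ⟨_, hS.gIsCokernel.fac (CokernelCofork.ofπ p h) WalkingParallelPair.one⟩
      have : Epi p' := epi_of_epi_fac hp'
      exact h₃ p' inferInstance hQ
    · exact exists_of_comp_ne_zero h₁ S.f p h⟩
  have hs : (tors P).IsClosedUnderSubobjects := ⟨fun {Y' Y} i _ hY Q p hp hQ => by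
    have hq : Mono (pushout.inr i p) := inferInstance
    obtain ⟨W, hm, hess⟩ := exists_ess_mono (pushout.inr i p)
    obtain ⟨S, s, hs, hPS, hS⟩ := hY (pushout.inl i p ≫ cokernel.π W.arrow) inferInstance
      (fun h0 => hQ (IsZero.of_mono (pushout.inr i p ≫ cokernel.π W.arrow) h0))
    refine ⟨pullback s (pushout.inr i p ≫ cokernel.π W.arrow), pullback.snd _ _, inferInstance,
      P.prop_of_mono (pullback.fst _ _) hPS, fun h0 => hS (hess s ?_)⟩
    refine Preadditive.mono_of_cancel_zero _ fun {T} z hz => ?_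
    obtain ⟨T', e, he', y, hy⟩ :=
      exists_of_comp_π_eq_zero (pushout.inr i p ≫ cokernel.π W.arrow) (z ≫ s) (by rw [Category.assoc, hz])
    have hl : pullback.lift (e ≫ z) y (by rw [Category.assoc]; exact hy) = 0 := h0.eq_of_tgt _ _
    have h1 := congrArg (· ≫ pullback.fst _ _) hl
    simp only [pullback.lift_fst, zero_comp] at h1
    rw [← cancel_epi e, h1, comp_zero]⟩
  refine ⟨{ }, fun J => ⟨fun Y hY => ?_⟩⟩
  obtain ⟨q⟩ := hY
  intro Q p hp hQ
  by_contra hne
  refine hQ ?_
  have hp0 : p = 0 := q.isColimit.hom_ext fun j => by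
    by_contra h
    exact hne (exists_of_comp_ne_zero (q.prop_diag_obj j) (q.ι.app j) p (by simpa using h))
  exact IsZero.of_epi_eq_zero p hp0

theorem isClosedFor_tors [P.IsClosedUnderQuotients] {M : C} (hM : _root_.GabLoc.IsClosedFor P M) :
    _root_.GabLoc.IsClosedFor (tors P) M := by
  refine ⟨fun Y hY f => ?_, fun N Y i p hp hY hse => ?_⟩
  · by_contra h
    obtain ⟨S, j, hj, hS, hS'⟩ := exists_of_comp_ne_zero hY f (𝟙 M) (by simpa using h)
    exact hS' (IsZero.of_mono_eq_zero j (hM.1 hS j))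
  · have : Mono i := hse.mono_f
    have : Epi p := hse.epi_g
    obtain ⟨W, hm, hess⟩ := exists_ess_mono i
    by_cases hcok : IsZero (cokernel (i ≫ cokernel.π W.arrow))
    · have : Epi (i ≫ cokernel.π W.arrow) :=
        Preadditive.epi_of_cokernel_zero (hcok.eq_of_tgt _ _)
      have : IsIso (i ≫ cokernel.π W.arrow) := isIso_of_mono_of_epi _
      exact IsSplitMono.mk' ⟨cokernel.π W.arrow ≫ inv (i ≫ cokernel.π W.arrow),
        by rw [← Category.assoc, IsIso.hom_inv_id]⟩
    · exfalso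
      set m' := i ≫ cokernel.π W.arrow
      have h0 : i ≫ cokernel.π W.arrow ≫ cokernel.π m' = 0 := by
        rw [← Category.assoc]; exact cokernel.condition m'
      obtain ⟨c, hc⟩ : ∃ c : Y ⟶ cokernel m', p ≫ c = cokernel.π W.arrow ≫ cokernel.π m' :=
        ⟨_, hse.gIsCokernel.fac (CokernelCofork.ofπ _ h0) WalkingParallelPair.one⟩
      have : Epi (cokernel.π W.arrow ≫ cokernel.π m') := epi_comp _ _
      have : Epi c := epi_of_epi_fac hc
      obtain ⟨S, s, hs, hPS, hS⟩ := hY c inferInstance hcok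
      let i' : M ⟶ pullback (cokernel.π m') s := pullback.lift m' 0 (by rw [cokernel.condition, zero_comp])
      have w : i' ≫ pullback.snd (cokernel.π m') s = 0 := pullback.lift_snd _ _ _
      have : Mono i' := mono_of_mono_fac (pullback.lift_fst m' 0 (by rw [cokernel.condition, zero_comp]))
      have hE : (ShortComplex.mk i' (pullback.snd (cokernel.π m') s) w).ShortExact := by
        refine { exact := ?_ }
        rw [ShortComplex.exact_iff_exact_up_to_refinements]
        intro T x hx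
        have hx' : x ≫ pullback.snd (cokernel.π m') s = 0 := hx
        obtain ⟨T', e, he, y, hy⟩ := exists_of_comp_π_eq_zero m' (x ≫ pullback.fst _ _)
          (by rw [Category.assoc, pullback.condition, reassoc_of% hx', zero_comp])
        refine ⟨T', e, he, y, ?_⟩
        apply pullback.hom_ext
        · change (e ≫ x) ≫ _ = (y ≫ i') ≫ _
          rw [Category.assoc, hy, Category.assoc, pullback.lift_fst]
        · change (e ≫ x) ≫ _ = (y ≫ i') ≫ _
          rw [Category.assoc, hx', Category.assoc, pullback.lift_snd, comp_zero, comp_zero]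
      obtain ⟨⟨r, hr⟩⟩ := (hM.2 i' (pullback.snd (cokernel.π m') s) w hPS hE).exists_splitMono
      let σ := ShortComplex.Splitting.ofExactOfRetraction _ hE.exact r hr inferInstance
      have ht : σ.s ≫ pullback.snd (cokernel.π m') s = 𝟙 S := σ.s_g
      refine hS (hess (σ.s ≫ pullback.fst (cokernel.π m') s) ?_)
      have : Mono ((σ.s ≫ pullback.fst (cokernel.π m') s) ≫ cokernel.π m') := by
        rw [Category.assoc, pullback.condition, reassoc_of% ht]
        exact hs
      exact this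

theorem isClosedFor_locClosure [P.IsClosedUnderSubobjects] [P.IsClosedUnderQuotients] {M : C}
    (hM : _root_.GabLoc.IsClosedFor P M) : _root_.GabLoc.IsClosedFor (_root_.GabLoc.locClosure.{w} P) M := by
  have h := isClosedFor_tors hM
  have hle : ∀ {Y : C}, _root_.GabLoc.locClosure.{w} P Y → tors P Y :=
    fun hY => hY _ isLocalizing_tors le_tors
  exact ⟨fun Y hY => h.1 (hle hY), fun N Y i p hp hY => h.2 i p hp (hle hY)⟩

theorem hasTorsion_inf (E : C) [Injective E]
    (hind : ∀ (A B : C), Nonempty (E ≅ A ⊞ B) → IsZero A ∨ IsZero B)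
    (S₁ S₂ : ObjectProperty C) (h₁ : _root_.GabLoc.IsLocalizing.{w} S₁) (h₂ : _root_.GabLoc.IsLocalizing.{w} S₂)
    (ht₁ : _root_.GabLoc.HasTorsion S₁ E) (ht₂ : _root_.GabLoc.HasTorsion S₂ E) :
    _root_.GabLoc.HasTorsion (S₁ ⊓ S₂) E := by
  have := h₁.isSerreClass
  have := h₂.isSerreClass
  obtain ⟨Y₁, hY₁, f₁, hf₁⟩ := ht₁
  obtain ⟨Y₂, hY₂, f₂, hf₂⟩ := ht₂
  let a := Abelian.image.ι f₁
  let b := Abelian.image.ι f₂
  have hA : ¬ IsZero (Abelian.image f₁) := fun h => hf₁ (by
    rw [← Abelian.image.fac f₁, h.eq_of_tgt (Abelian.factorThruImage f₁) 0, zero_comp])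
  have hB : ¬ IsZero (Abelian.image f₂) := fun h => hf₂ (by
    rw [← Abelian.image.fac f₂, h.eq_of_tgt (Abelian.factorThruImage f₂) 0, zero_comp])
  refine ⟨pullback a b, ⟨S₁.prop_of_mono (pullback.fst a b) (S₁.prop_of_epi (Abelian.factorThruImage f₁) hY₁),
    S₂.prop_of_mono (pullback.snd a b) (S₂.prop_of_epi (Abelian.factorThruImage f₂) hY₂)⟩,
    pullback.fst a b ≫ a, fun h0 => ?_⟩
  have hm : Mono (b ≫ cokernel.π a) := Preadditive.mono_of_cancel_zero _ fun {T} z hz => by
    obtain ⟨T', e, he, y, hy⟩ := exists_of_comp_π_eq_zero a (z ≫ b) (by rw [Category.assoc, hz])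
    have h1 : (e ≫ z) ≫ b = 0 := by
      have h2 := congrArg (pullback.lift y (e ≫ z) (by rw [Category.assoc, hy]) ≫ ·) h0
      simp only [pullback.lift_fst_assoc, comp_zero] at h2
      rw [Category.assoc, hy, h2]
    rw [← cancel_epi e, comp_zero]
    exact zero_of_comp_mono b h1
  exact (uniform E hind a b hm).elim hA hB

end Groth.Agent.Lib.GabLoc.Torsion
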