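/-
Transfinite filtrations of objects of a localizing closure.
-/
import Groth.Agent.Lib.GabLoc.Torsion
import Mathlib.CategoryTheory.Abelian.GrothendieckCategory.EnoughInjectives
import Mathlib.CategoryTheory.MorphismProperty.TransfiniteComposition
import Mathlib.Order.SuccPred.Limit

set_option autoImplicit false

open CategoryTheory CategoryTheory.Limits Groth.Agent.Lib.GabLoc

namespace Groth.Agent.Lib.GabLoc.Filtration

universe w v u

variable {C : Type u} [Category.{v} C] [Abelian C] [IsGrothendieckAbelian.{w} C]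
variable (P : ObjectProperty C)

lemma subquot_of_mem {X : C} (h : P X) : _root_.GabLoc.subquotCoprod.{w} P X :=
  ⟨PUnit, fun _ => X, fun _ => h, ∐ (fun _ : PUnit.{w + 1} => X), 𝟙 _, Sigma.desc (fun _ => 𝟙 X),
    inferInstance, (IsSplitEpi.mk' ⟨Sigma.ι (fun _ : PUnit.{w + 1} => X) PUnit.unit, Sigma.ι_desc _ _⟩).epi⟩

instance : (_root_.GabLoc.subquotCoprod.{w} P).IsClosedUnderQuotients :=
  ⟨fun f _ ⟨J, X, hX, B, i, p, hi, hp⟩ => ⟨J, X, hX, B, i, p ≫ f, hi, epi_comp p f⟩⟩

instance : (_root_.GabLoc.subquotCoprod.{w} P).IsClosedUnderSubobjects :=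
  ⟨fun f _ ⟨J, X, hX, B, i, p, hi, hp⟩ =>
    ⟨J, X, hX, pullback p f, pullback.fst p f ≫ i, pullback.snd p f, mono_comp _ _, inferInstance⟩⟩

lemma le_of_isLocalizing {Q : ObjectProperty C} (hQ : _root_.GabLoc.IsLocalizing.{w} Q) (hPQ : P ≤ Q) :
    _root_.GabLoc.subquotCoprod.{w} P ≤ Q := by
  rintro A ⟨J, X, hX, B, i, p, hi, hp⟩
  have := hQ.isSerreClass
  have := hQ.isClosedUnderCoproducts J
  exact Q.prop_of_epi p (Q.prop_of_mono i (Q.prop_of_isColimit (coproductIsCoproduct X)
    (fun ⟨j⟩ => hPQ _ (hX j))))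

lemma prop_of_colimit {Q : ObjectProperty C} (hQ : _root_.GabLoc.IsLocalizing.{w} Q) {K : Type w}
    [Category.{w} K] {G : K ⥤ C} {c : Cocone G} (hc : IsColimit c) (h : ∀ k, Q (G.obj k)) : Q c.pt := by
  have := hQ.isSerreClass
  have := hQ.isClosedUnderCoproducts K
  have : Epi (Sigma.desc c.ι.app) := ⟨fun a b hab => hc.hom_ext fun k => by
    simpa using congrArg (Sigma.ι G.obj k ≫ ·) hab⟩
  exact Q.prop_of_epi (Sigma.desc c.ι.app) (Q.prop_of_isColimit (coproductIsCoproduct G.obj)
    (fun ⟨k⟩ => h k))

open ZeroObject in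
theorem mem_of_transfinite {X : C}
    (h : MorphismProperty.transfiniteCompositions.{w} (_root_.GabLoc.monoModSubquot.{w} P) (0 : (0 : C) ⟶ X)) :
    _root_.GabLoc.locClosure.{w} P X := by
  intro Q hQ hPQ
  have := hQ.isSerreClass
  rw [MorphismProperty.transfiniteCompositions_iff] at h
  obtain ⟨J, _, _, _, _, ⟨h⟩⟩ := h
  have key : ∀ j : J, Q (h.F.obj j) := by
    intro j
    induction j using SuccOrder.limitRecOn with
    | isMin j hj =>
      have := hj.eq_bot
      subst this
      exact Q.prop_of_isZero ((isZero_zero C).of_iso h.isoBot)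
    | succ j hj hQj =>
      obtain ⟨hm, hc⟩ := h.map_mem j hj
      exact Q.prop_X₂_of_shortExact (S := ShortComplex.mk _ _ (cokernel.condition (h.F.map (homOfLE (Order.le_succ j)))))
        { exact := ShortComplex.exact_of_g_is_cokernel _ (cokernelIsCokernel _) } hQj
        (le_of_isLocalizing P hQ hPQ _ hc)
    | isSuccLimit j hj ih =>
      exact prop_of_colimit hQ (h.F.isColimitOfIsWellOrderContinuous j hj) (fun k => ih k.1 k.2)
  exact prop_of_colimit hQ h.isColimit key

section construction

variable {P} {X : C}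

lemma monoModSubquot_iff {Y Z Y' Z' : C} {f : Y ⟶ Z} {g : Y' ⟶ Z'} (e : Arrow.mk f ≅ Arrow.mk g)
    (h : _root_.GabLoc.monoModSubquot.{w} P f) : _root_.GabLoc.monoModSubquot.{w} P g := by
  obtain ⟨hm, hc⟩ := h
  have hm' : Mono g := ((MorphismProperty.monomorphisms C).arrow_mk_iso_iff e).1 hm
  refine ⟨hm', ?_⟩
  let i := cokernel.mapIso f g (Arrow.leftFunc.mapIso e) (Arrow.rightFunc.mapIso e) (Arrow.w e.hom).symm
  exact (_root_.GabLoc.subquotCoprod.{w} P).prop_of_epi i.hom hc

lemma exists_larger (hX : Torsion.tors (_root_.GabLoc.subquotCoprod.{w} P) X) (A : Subobject X) (hA : A ≠ ⊤) :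
    ∃ (A' : Subobject X) (h : A < A'), _root_.GabLoc.monoModSubquot.{w} P (Subobject.ofLE A A' h.le) := by
  have hne : ¬ IsZero (cokernel A.arrow) := fun h0 => hA (by
    have : Epi A.arrow := Preadditive.epi_of_cokernel_zero (h0.eq_of_tgt _ _)
    have : IsIso A.arrow := isIso_of_mono_of_epi _
    exact Subobject.eq_top_of_isIso_arrow A)
  obtain ⟨S, s, hs, hS, hS0⟩ := hX (cokernel.π A.arrow) inferInstance hne
  let A' : Subobject X := Subobject.mk (pullback.fst (cokernel.π A.arrow) s)
  have hle : A ≤ A' := Subobject.le_mk_of_comm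
    (pullback.lift A.arrow 0 (by rw [cokernel.condition, zero_comp])) (pullback.lift_fst _ _ _)
  have hlt : A < A' := by
    refine lt_of_le_of_ne hle fun he => hS0 (IsZero.of_epi_eq_zero (pullback.snd (cokernel.π A.arrow) s) ?_)
    obtain ⟨k, hk⟩ : ∃ k, k ≫ A.arrow = pullback.fst (cokernel.π A.arrow) s :=
      ⟨Subobject.ofMkLE _ A (le_of_eq he.symm), Subobject.ofMkLE_arrow (le_of_eq he.symm)⟩
    rw [← cancel_mono s, zero_comp, ← pullback.condition, ← hk, Category.assoc, cokernel.condition, comp_zero]
  refine ⟨A', hlt, inferInstanceAs (Mono (Subobject.ofLE A A' hlt.le)), ?_⟩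
  let q : (A' : C) ⟶ S := (Subobject.underlyingIso _).hom ≫ pullback.snd _ _
  have hq : Subobject.ofLE A A' hlt.le ≫ q = 0 := by
    rw [← cancel_mono s, zero_comp]
    simp only [q, Category.assoc]
    rw [← pullback.condition]
    erw [Subobject.underlyingIso_hom_comp_eq_mk_assoc, Subobject.ofLE_arrow_assoc, cokernel.condition]
  have hex : (ShortComplex.mk _ _ hq).Exact := by
    rw [ShortComplex.exact_iff_exact_up_to_refinements]
    intro T x hx
    have hx' : x ≫ q = 0 := hx
    obtain ⟨T', e, he, y, hy⟩ := Essential.exists_of_comp_π_eq_zero A.arrow (x ≫ A'.arrow) (by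
      rw [Category.assoc]
      erw [← Subobject.underlyingIso_hom_comp_eq_mk (pullback.fst (cokernel.π A.arrow) s)]
      rw [Category.assoc, pullback.condition]
      simp only [q] at hx'
      exact (by simpa only [Category.assoc, zero_comp] using congrArg (· ≫ s) hx'))
    exact ⟨T', e, he, y, (cancel_mono A'.arrow).1 (by
      change (e ≫ x) ≫ A'.arrow = (y ≫ Subobject.ofLE A A' hlt.le) ≫ A'.arrow
      rw [Category.assoc, Category.assoc, Subobject.ofLE_arrow, hy])⟩
  have : Epi (ShortComplex.mk _ _ hq).g := inferInstanceAs (Epi q)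
  let i := IsColimit.coconePointUniqueUpToIso hex.gIsCokernel (cokernelIsCokernel _)
  exact (_root_.GabLoc.subquotCoprod.{w} P).prop_of_epi i.hom hS

open scoped Classical in
/-- The successor step of the filtration. -/
noncomputable def larger (hX : Torsion.tors (_root_.GabLoc.subquotCoprod.{w} P) X) (A : Subobject X) : Subobject X :=
  if hA : A = ⊤ then ⊤ else (exists_larger hX A hA).choose

lemma lt_larger (hX : Torsion.tors (_root_.GabLoc.subquotCoprod.{w} P) X) (A : Subobject X) (hA : A ≠ ⊤) :
    A < larger hX A := by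
  rw [larger, dif_neg hA]
  exact (exists_larger hX A hA).choose_spec.choose

lemma le_larger (hX : Torsion.tors (_root_.GabLoc.subquotCoprod.{w} P) X) (A : Subobject X) :
    A ≤ larger hX A := by
  by_cases hA : A = ⊤
  · rw [larger, dif_pos hA]; exact le_top
  · exact (lt_larger hX A hA).le

open ZeroObject in
lemma monoModSubquot_ofLE (hX : Torsion.tors (_root_.GabLoc.subquotCoprod.{w} P) X) (A : Subobject X) :
    _root_.GabLoc.monoModSubquot.{w} P (Subobject.ofLE A (larger hX A) (le_larger hX A)) := by
  by_cases hA : A = ⊤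
  · have he : larger hX A = A := by rw [larger, dif_pos hA, hA]
    have : IsIso (Subobject.ofLE A (larger hX A) (le_larger hX A)) :=
      ⟨Subobject.ofLE _ _ he.le, by simp, by simp⟩
    refine ⟨inferInstance, PEmpty, fun a => a.elim, fun a => a.elim, _, 𝟙 _, 0, inferInstance, ?_⟩
    exact ⟨fun a b _ => (isZero_cokernel_of_epi _).eq_of_src _ _⟩
  · refine monoModSubquot_iff ?_ (exists_larger hX A hA).choose_spec.choose_spec
    exact Arrow.isoMk (Iso.refl _) (Subobject.isoOfEq _ _ (by rw [larger, dif_neg hA]))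
      (by simp)

variable (hX : Torsion.tors (_root_.GabLoc.subquotCoprod.{w} P) X) (A₀ : Subobject X)
  (J : Type w) [LinearOrder J] [OrderBot J] [SuccOrder J] [WellFoundedLT J]

/-- The filtration as subobjects. -/
noncomputable def toMonoOver : J ⥤ MonoOver X where
  obj j := MonoOver.mk (transfiniteIterate (larger hX) j A₀).arrow
  map {j j'} f := MonoOver.homMk (Subobject.ofLE _ _
      (monotone_transfiniteIterate _ _ (le_larger hX) (leOfHom f)))

/-- The filtration as objects. -/
noncomputable abbrev functor : J ⥤ C :=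
  toMonoOver hX A₀ J ⋙ MonoOver.forget _ ⋙ Over.forget _

set_option backward.defeqAttrib.useBackward true in
instance : (functor hX A₀ J).IsWellOrderContinuous where
  nonempty_isColimit m hm := ⟨by
    have := hm.nonempty_Iio.to_subtype
    let c := (Set.principalSegIio m).cocone (toMonoOver hX A₀ J ⋙ MonoOver.forget _)
    have : Mono c.pt.hom := by dsimp [c, toMonoOver]; infer_instance
    apply IsGrothendieckAbelian.isColimitMapCoconeOfSubobjectMkEqISup
      ((Set.principalSegIio m).monotone.functor ⋙ toMonoOver hX A₀ J) c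
    dsimp [c, toMonoOver]
    simp only [Subobject.mk_arrow]
    exact transfiniteIterate_limit (larger hX) A₀ m hm⟩

end construction

open ZeroObject in
theorem transfinite_of_mem {X : C} (hX : _root_.GabLoc.locClosure.{w} P X) :
    MorphismProperty.transfiniteCompositions.{w} (_root_.GabLoc.monoModSubquot.{w} P) (0 : (0 : C) ⟶ X) := by
  have ht : Torsion.tors (_root_.GabLoc.subquotCoprod.{w} P) X :=
    hX _ Torsion.isLocalizing_tors (fun Y hY => Torsion.le_tors _ (subquot_of_mem P hY))
  let A₀ : Subobject X := Subobject.mk (0 : (0 : C) ⟶ X)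
  let κ := Order.succ (Cardinal.mk (Shrink.{w} (Subobject X)))
  have : Nonempty κ.ord.ToType := by simp [κ]
  let := WellFoundedLT.toOrderBot κ.ord.ToType
  obtain ⟨j, hj⟩ : ∃ j : κ.ord.ToType, transfiniteIterate (larger ht) j A₀ = ⊤ :=
    top_mem_range_transfiniteIterate (larger ht) A₀ (lt_larger ht) (dif_pos rfl) (fun h => by
      have h1 : HasCardinalLT (Subobject X) (Cardinal.mk κ.ord.ToType) :=
        lt_of_lt_of_le (Order.lt_succ _) (by simp [κ])
      simpa [hasCardinalLT_iff_cardinal_mk_lt] using h1.of_injective _ h)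
  let F := functor ht A₀ κ.ord.ToType
  have hc : (_root_.GabLoc.monoModSubquot.{w} P).TransfiniteCompositionOfShape (Set.Iic j)
      (F.map (homOfLE bot_le : ⊥ ⟶ j)) :=
    { F := (Set.initialSegIic j).monotone.functor ⋙ F
      isoBot := Iso.refl _
      incl :=
        { app := fun k => F.map (homOfLE k.2)
          naturality := fun k k' h => by
            simp [F, functor, toMonoOver, MonoOver.forget] }
      isColimit := colimitOfDiagramTerminal isTerminalTop _
      fac := Category.id_comp _
      map_mem := fun k hk => by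
        refine monoModSubquot_iff ?_ (monoModSubquot_ofLE ht (transfiniteIterate (larger ht) k.1 A₀))
        refine Arrow.isoMk (Iso.refl _) (Subobject.isoOfEq _ _ ?_) ?_
        · rw [Set.Iic.succ_eq_of_not_isMax hk]
          exact (transfiniteIterate_succ _ _ _ (Set.not_isMax_coe _ hk)).symm
        · dsimp [F, functor, toMonoOver, MonoOver.forget]
          simp only [← cancel_mono (Subobject.arrow _), Category.assoc]
          refine (Category.id_comp _).trans ?_
          exact (Subobject.ofLE_arrow _).trans (by simp [Subobject.isoOfEq]; rfl) }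
  let t := transfiniteIterate (larger ht) j A₀
  have := (Subobject.isIso_arrow_iff_eq_top t).2 hj
  let i : (t : C) ≅ X := asIso t.arrow
  have hc' : (_root_.GabLoc.monoModSubquot.{w} P).TransfiniteCompositionOfShape (Set.Iic j) (0 : (0 : C) ⟶ X) :=
    hc.ofArrowIso (Arrow.isoMk (Subobject.isoOfEq _ _ (transfiniteIterate_bot _ _) ≪≫
      Subobject.underlyingIso (0 : (0 : C) ⟶ X)) i (by
        dsimp [F, functor, toMonoOver, MonoOver.forget]
        simp [i, t]
        exact ((isZero_zero C).of_iso (Subobject.isoOfEq _ _ (transfiniteIterate_bot _ _) ≪≫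
          Subobject.underlyingIso (0 : (0 : C) ⟶ X))).eq_of_src _ _))
  exact MorphismProperty.transfiniteCompositionsOfShape_le_transfiniteCompositions _ _ _ ⟨hc'⟩

end Groth.Agent.Lib.GabLoc.Filtration
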